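import Mathlib.RingTheory.Adjoin.Tower
import Mathlib.RingTheory.FiniteType
import Mathlib.RingTheory.Finiteness.Basic
import Mathlib.Algebra.MvPolynomial.Eval
import Mathlib.Algebra.BigOperators.Pi

/-!
# Finite type subalgebras by Artin–Tate
-/

universe u v

namespace Groth.L05.Gluing

/-- A subalgebra over which a finite type algebra over a Noetherian ring is finite is of finite type. -/
theorem finiteType_subalgebra_of_span {R : Type u} [CommRing R] [IsNoetherianRing R] {S : Type v} [CommRing S]
    [Algebra R S] (hS : Algebra.FiniteType R S) (E : Subalgebra R S) (s : Set S) (hs : s.Finite)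
    (h : Submodule.span E s = ⊤) : Algebra.FiniteType R E :=
  ⟨fg_of_fg_of_fg R E S hS.out (h ▸ Submodule.fg_span hs) Subtype.val_injective⟩

/-- Finite products of algebras of finite type are of finite type. -/
theorem finiteType_pi {K : Type u} [CommRing K] {ι : Type u} [Finite ι] (B : ι → Type u) [∀ i, CommRing (B i)]
    [∀ i, Algebra K (B i)] [∀ i, Algebra.FiniteType K (B i)] : Algebra.FiniteType K (∀ i, B i) := by
  classical
  haveI := Fintype.ofFinite ι
  choose n f hf using fun i => Algebra.FiniteType.iff_quotient_mvPolynomial''.mp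
    (inferInstance : Algebra.FiniteType K (B i))
  let gen : (Σ i, Fin (n i)) ⊕ ι → ∀ i, B i :=
    Sum.elim (fun ij => Pi.single ij.1 (f ij.1 (MvPolynomial.X ij.2))) fun i => Pi.single i 1
  let F : MvPolynomial ((Σ i, Fin (n i)) ⊕ ι) K →ₐ[K] ∀ i, B i := MvPolynomial.aeval gen
  refine Algebra.FiniteType.of_surjective F fun b => ?_
  have hs : ∀ i (x : B i), Pi.single i x ∈ F.range := by
    intro i x
    obtain ⟨q, rfl⟩ := hf i x
    have hX : ∀ z, gen z ∈ F.range := fun z => ⟨MvPolynomial.X z, MvPolynomial.aeval_X gen z⟩
    induction q using MvPolynomial.induction_on with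
    | C c =>
      rw [show f i (MvPolynomial.C c) = algebraMap K (B i) c from (f i).commutes c,
        show (Pi.single i (algebraMap K (B i) c) : ∀ i, B i) = algebraMap K (∀ i, B i) c * Pi.single i 1 from by
          rw [← Pi.single_mul_right, mul_one]; rfl]
      exact F.range.mul_mem (F.range.algebraMap_mem c) (hX (Sum.inr i))
    | add u v hu hv => rw [map_add, Pi.single_add]; exact F.range.add_mem hu hv
    | mul_X u j hu =>
      rw [map_mul, Pi.single_mul]
      exact F.range.mul_mem hu (hX (Sum.inl ⟨i, j⟩))
  have hb : b ∈ F.range := by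
    rw [← Finset.univ_sum_single b]
    exact F.range.sum_mem fun i _ => hs i (b i)
  exact hb

end Groth.L05.Gluing
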